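import Mathlib
import Groth.Agent.Split94.Basic

/-!
Staircase monomials form a basis of the universal splitting algebra.
-/

set_option autoImplicit false
universe u

namespace SymB52

open MvPolynomial Groth.Agent.Split94

variable {R : Type u} [CommRing R] {n : ℕ}

abbrev Idx (n : ℕ) : Type := Π i : Fin n, Fin (n - (i : ℕ))

theorem coeff_mem_of_mul {S : Type u} [CommRing S] (B : Subring S) {c : S} (hc : c ∈ B)
    {g : Polynomial S} (h : ∀ k, ((Polynomial.X - Polynomial.C c) * g).coeff k ∈ B) :
    ∀ k, g.coeff k ∈ B := by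
  have hf : (Polynomial.X - Polynomial.C c) * g ∈ Polynomial.lifts B.subtype :=
    (Polynomial.lifts_iff_coeff_lifts _).2 fun k => ⟨⟨_, h k⟩, rfl⟩
  obtain ⟨f', hf'⟩ := hf
  have hg : g = (f' /ₘ (Polynomial.X - Polynomial.C (⟨c, hc⟩ : B))).map B.subtype := by
    rw [Polynomial.map_divByMonic _ (Polynomial.monic_X_sub_C _), ← Polynomial.coe_mapRingHom, hf']
    simp [Polynomial.mul_divByMonic_cancel_left, Polynomial.monic_X_sub_C]
  intro k
  rw [hg, Polynomial.coeff_map]
  exact Subtype.mem _

variable (R)

noncomputable def mon (d : Idx n) : MvPolynomial (Fin n) R := ∏ i : Fin n, X i ^ ((d i : ℕ))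

variable {R}

theorem span_mon_eq_top (a : Fin n → R) :
    Submodule.span R (Set.range fun d : Idx n => Ideal.Quotient.mk (splitIdeal n a) (mon R d)) = ⊤ := by
  classical
  set S := Split n a
  set x : Fin n → S := fun j => Ideal.Quotient.mk (splitIdeal n a) (X j) with hx
  let M : ℕ → Submodule R S := fun i =>
    Submodule.span R {z | ∃ d : Idx n, (∀ j : Fin n, i ≤ (j : ℕ) → (d j : ℕ) = 0) ∧ ∏ j, x j ^ (d j : ℕ) = z}
  let B : ℕ → Subalgebra R S := fun i => Algebra.adjoin R {z | ∃ j : Fin n, (j : ℕ) < i ∧ x j = z}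
  have hBmono : ∀ i, B i ≤ B (i + 1) := fun i => Algebra.adjoin_mono (by
    rintro z ⟨j, hj, rfl⟩
    exact ⟨j, by omega, rfl⟩)
  have hco : ∀ i ≤ n, ∀ k, (∏ j ∈ Finset.univ.filter (fun j : Fin n => i ≤ (j : ℕ)),
      (Polynomial.X - Polynomial.C (x j))).coeff k ∈ B i := by
    intro i
    induction i with
    | zero =>
      intro _ k
      have h0 : (Finset.univ.filter fun j : Fin n => 0 ≤ (j : ℕ)) = Finset.univ :=
        Finset.filter_true_of_mem fun j _ => Nat.zero_le _
      rw [h0, hx, prod_root, Polynomial.coeff_map]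
      exact Subalgebra.algebraMap_mem _ _
    | succ i ih =>
      intro hi k
      have hs : (Finset.univ.filter fun j : Fin n => i ≤ (j : ℕ)) =
          insert ⟨i, by omega⟩ (Finset.univ.filter fun j : Fin n => i + 1 ≤ (j : ℕ)) := by
        ext j
        simp [Fin.ext_iff]
        omega
      refine coeff_mem_of_mul (B (i + 1)).toSubring (c := x ⟨i, by omega⟩)
        (Algebra.subset_adjoin ⟨_, Nat.lt_succ_self i, rfl⟩) (fun k => ?_) k
      have := hBmono i (ih (by omega) k)
      rw [hs, Finset.prod_insert (by simp)] at this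
      exact this
  have key : ∀ i ≤ n, Subalgebra.toSubmodule (B i) ≤ M i := by
    intro i
    induction i with
    | zero =>
      intro hn0 z hz
      have hB0 : B 0 = ⊥ := by
        simp only [B, Nat.not_lt_zero, false_and, exists_false, Set.ofPred_false]
        exact Algebra.adjoin_empty R S
      rw [hB0] at hz
      obtain ⟨r, rfl⟩ := Algebra.mem_bot.1 hz
      rw [Algebra.algebraMap_eq_smul_one]
      refine Submodule.smul_mem _ _ (Submodule.subset_span ⟨fun j => ⟨0, by omega⟩, fun j _ => rfl, ?_⟩)
      simp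
    | succ i ih =>
      intro hi
      have hin : i < n := hi
      have hshift : ∀ s ∈ B i, ∀ k < n - i, s * x ⟨i, hin⟩ ^ k ∈ M (i + 1) := by
        intro s hs k hk
        have hs' : s ∈ M i := ih (by omega) hs
        clear hs
        induction hs' using Submodule.span_induction with
        | mem z hz =>
          obtain ⟨d, hd, rfl⟩ := hz
          refine Submodule.subset_span ⟨Function.update d ⟨i, hin⟩ ⟨k, hk⟩, fun j hj => ?_, ?_⟩
          · rw [Function.update_of_ne (by rintro rfl; simp at hj), hd j (by omega)]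
          · rw [Finset.prod_eq_mul_prod_sdiff_singleton_of_mem (Finset.mem_univ (⟨i, hin⟩ : Fin n)),
              Finset.prod_eq_mul_prod_sdiff_singleton_of_mem (Finset.mem_univ (⟨i, hin⟩ : Fin n))
                (fun j => x j ^ (d j : ℕ)), Function.update_self, hd ⟨i, hin⟩ le_rfl, pow_zero, one_mul,
              mul_comm]
            congr 1
            refine Finset.prod_congr rfl fun j hj => ?_
            rw [Function.update_of_ne (by simpa using hj)]
        | zero => simp
        | add a b _ _ ha hb => rw [add_mul]; exact add_mem ha hb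
        | smul c a _ ha => rw [smul_mul_assoc]; exact Submodule.smul_mem _ _ ha
      set q := ∏ j ∈ Finset.univ.filter (fun j : Fin n => i ≤ (j : ℕ)),
        (Polynomial.X - Polynomial.C (x j)) with hq
      have hroot : q.eval (x ⟨i, hin⟩) = 0 := by
        rw [hq, Polynomial.eval_prod]
        exact Finset.prod_eq_zero (i := ⟨i, hin⟩) (by simp) (by simp)
      have htop : ∀ s ∈ B i, s * x ⟨i, hin⟩ ^ (n - i) ∈ M (i + 1) := by
        intro s hs
        rcases subsingleton_or_nontrivial S with hS | hS
        · rw [Subsingleton.elim (s * _) 0]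
          exact zero_mem _
        have hcard : (Finset.univ.filter fun j : Fin n => i ≤ (j : ℕ)).card = n - i := by
          rw [show (Finset.univ.filter fun j : Fin n => i ≤ (j : ℕ)) = Finset.Ici ⟨i, hin⟩ by
            ext j; simp [Fin.le_def], Fin.card_Ici]
        have hd : q.natDegree = n - i := by
          rw [hq, Polynomial.natDegree_prod_of_monic _ _ fun j _ => Polynomial.monic_X_sub_C _]
          simp [hcard]
        have hm : q.Monic := Polynomial.monic_prod_of_monic _ _ fun j _ => Polynomial.monic_X_sub_C _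
        rw [Polynomial.eval_eq_sum_range, Finset.sum_range_succ, hm.coeff_natDegree, one_mul, hd,
          add_comm] at hroot
        rw [eq_neg_of_add_eq_zero_left hroot, show ∀ w : S, s * -w = -(s * w) from mul_neg s,
          Finset.mul_sum]
        refine Submodule.neg_mem _ (sum_mem fun k hk => ?_)
        rw [← mul_assoc]
        exact hshift _ (mul_mem hs (hco i (by omega) k)) k (Finset.mem_range.1 hk)
      have h1 : (1 : S) ∈ M (i + 1) := by simpa using hshift 1 (one_mem _) 0 (by omega)
      simp only [B, Algebra.adjoin_eq_span]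
      refine Submodule.span_le.2 fun z hz => ?_
      induction hz using Submonoid.closure_induction_right with
      | one => exact h1
      | mul_right y hy g hg ih' =>
        obtain ⟨j, hj, rfl⟩ := hg
        clear hy
        induction ih' using Submodule.span_induction with
        | mem w hw =>
          obtain ⟨d, hd, rfl⟩ := hw
          have hsplit : ∏ l, x l ^ (d l : ℕ) =
              (∏ l ∈ Finset.univ \ {(⟨i, hin⟩ : Fin n)}, x l ^ (d l : ℕ)) * x ⟨i, hin⟩ ^ (d ⟨i, hin⟩ : ℕ) := by
            rw [mul_comm, Finset.prod_eq_mul_prod_sdiff_singleton_of_mem (Finset.mem_univ _)]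
          have hmem : ∏ l ∈ Finset.univ \ {(⟨i, hin⟩ : Fin n)}, x l ^ (d l : ℕ) ∈ B i := by
            refine Subalgebra.prod_mem _ fun l hl => ?_
            rcases lt_trichotomy (l : ℕ) i with h | h | h
            · exact pow_mem (show x l ∈ B i from Algebra.subset_adjoin ⟨l, h, rfl⟩) _
            · exact absurd (Fin.ext h : l = ⟨i, hin⟩) (by simpa using hl)
            · rw [hd l h, pow_zero]
              exact one_mem _
          have hlt := (d ⟨i, hin⟩).isLt
          rw [hsplit]
          rcases Nat.lt_succ_iff_lt_or_eq.1 hj with h | h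
          · rw [mul_right_comm]
            exact hshift _ (mul_mem hmem (Algebra.subset_adjoin (Exists.intro j ⟨h, rfl⟩ : x j ∈ {z | ∃ l : Fin n, (l : ℕ) < i ∧ x l = z}))) _ hlt
          · rw [show j = ⟨i, hin⟩ from Fin.ext h, mul_assoc, ← pow_succ]
            rcases Nat.lt_or_ge ((d ⟨i, hin⟩ : ℕ) + 1) (n - i) with h' | h'
            · exact hshift _ hmem _ h'
            · rw [show (d ⟨i, hin⟩ : ℕ) + 1 = n - i by simp only at hlt; omega]
              exact htop _ hmem
        | zero => simp
        | add a b _ _ ha hb => rw [add_mul]; exact add_mem ha hb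
        | smul c a _ ha => rw [smul_mul_assoc]; exact Submodule.smul_mem _ _ ha
  refine eq_top_iff.2 fun z h0 => ?_
  clear h0
  obtain ⟨p, rfl⟩ := Ideal.Quotient.mk_surjective z
  have hz : Ideal.Quotient.mk (splitIdeal n a) p ∈ B n := by
    induction p using MvPolynomial.induction_on with
    | C r => exact Subalgebra.algebraMap_mem _ r
    | add p q hp hq => rw [map_add]; exact add_mem hp hq
    | mul_X p j hp => rw [map_mul]; exact mul_mem hp (Algebra.subset_adjoin ⟨j, j.isLt, rfl⟩)
  refine Submodule.span_le.2 ?_ (key n le_rfl hz)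
  rintro z ⟨d, _, rfl⟩
  exact Submodule.subset_span ⟨d, by simp [mon, map_prod, hx]⟩

theorem card_idx : Fintype.card (Idx n) = n.factorial := by
  simp only [Idx, Fintype.card_pi, Fintype.card_fin]
  rw [Fin.prod_univ_eq_prod_range (fun i => n - i), ← Nat.descFactorial_self, Nat.descFactorial_eq_prod_range]

theorem exists_mon_basis (a : Fin n → R) :
    ∃ b : Module.Basis (Idx n) R (Split n a), ∀ d, b d = Ideal.Quotient.mk (splitIdeal n a) (mon R d) := by
  obtain ⟨b⟩ := exists_basis n R a
  let b' : Module.Basis (Idx n) R (Split n a) :=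
    b.reindex (Fintype.equivFinOfCardEq card_idx).symm
  have : Module.Finite R (Split n a) := .of_basis b'
  set v : Idx n → Split n a := fun d => Ideal.Quotient.mk (splitIdeal n a) (mon R d)
  have hv : Function.Surjective (b'.constr R v : Split n a →ₗ[R] Split n a) :=
    LinearMap.range_eq_top.1 (by rw [Module.Basis.constr_range]; exact span_mon_eq_top a)
  have hbij := OrzechProperty.bijective_of_surjective_endomorphism _ hv
  exact ⟨b'.map (LinearEquiv.ofBijective _ hbij), fun d => by simp [v]⟩

theorem mk_sum (a : Fin n → R) {b : Module.Basis (Idx n) R (Split n a)}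
    (hb : ∀ d, b d = Ideal.Quotient.mk (splitIdeal n a) (mon R d)) (γ : Idx n → R) :
    Ideal.Quotient.mk (splitIdeal n a) (∑ d, C (γ d) * mon R d) = b.equivFun.symm γ := by
  rw [map_sum, Module.Basis.equivFun_symm_apply]
  refine Finset.sum_congr rfl fun d _ => ?_
  rw [map_mul, hb]
  exact (Algebra.smul_def (A := Split n a) (γ d) _).symm

theorem mem_sup_map_iff (a : Fin n → R) (J : Ideal R) (b : Module.Basis (Idx n) R (Split n a))
    (x : MvPolynomial (Fin n) R) :
    x ∈ splitIdeal n a ⊔ Ideal.map (C : R →+* MvPolynomial (Fin n) R) J ↔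
      ∀ d, b.equivFun (Ideal.Quotient.mk (splitIdeal n a) x) d ∈ J := by
  rw [sup_comm, ← Ideal.mem_quotient_iff_mem_sup, Ideal.map_map]
  have h : ∀ y : Split n a, y ∈ J.map (algebraMap R (Split n a)) ↔ ∀ d, b.equivFun y d ∈ J := by
    intro y
    rw [← Submodule.restrictScalars_mem R, ← Ideal.smul_top_eq_map]
    constructor
    · intro hy d
      refine Submodule.smul_induction_on hy (fun r hr m _ => ?_) (fun y z hy hz => ?_)
      · rw [map_smul]; exact J.mul_mem_right _ hr
      · rw [map_add]; exact add_mem hy hz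
    · intro hy
      rw [← b.sum_equivFun y]
      exact sum_mem fun d _ => Submodule.smul_mem_smul (hy d) Submodule.mem_top
  exact h _

theorem sum_sub_mem_iff (a : Fin n → R) (J : Ideal R) (α β : Idx n → R) :
    (∑ d, C (α d) * mon R d) - (∑ d, C (β d) * mon R d)
      ∈ splitIdeal n a ⊔ Ideal.map (C : R →+* MvPolynomial (Fin n) R) J ↔ ∀ d, α d - β d ∈ J := by
  obtain ⟨b, hb⟩ := exists_mon_basis a
  rw [mem_sup_map_iff a J b, map_sub, mk_sum a hb, mk_sum a hb, map_sub, LinearEquiv.apply_symm_apply,
    LinearEquiv.apply_symm_apply]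
  rfl

theorem mem_sup_iff (a : Fin n → R) (J : Ideal R) (x : MvPolynomial (Fin n) R) :
    x ∈ splitIdeal n a ⊔ Ideal.map (C : R →+* MvPolynomial (Fin n) R) J ↔
      ∃ j : Idx n → R, (∀ d, j d ∈ J) ∧ x - (∑ d, C (j d) * mon R d) ∈ splitIdeal n a := by
  obtain ⟨b, hb⟩ := exists_mon_basis a
  rw [mem_sup_map_iff a J b]
  constructor
  · intro h
    refine ⟨_, h, Ideal.Quotient.eq.1 ?_⟩
    rw [mk_sum a hb, LinearEquiv.symm_apply_apply]
  · rintro ⟨j, hj, hx⟩ d
    rw [Ideal.Quotient.eq.2 hx, mk_sum a hb, LinearEquiv.apply_symm_apply]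
    exact hj d

theorem bijective_int : Function.Bijective (fun p : Idx n → MvPolynomial (Fin n) ℤ =>
    ∑ d, (MvPolynomial.aeval (fun i : Fin n => MvPolynomial.esymm (Fin n) ℤ ((i : ℕ) + 1))) (p d) * mon ℤ d) := by
  set e : MvPolynomial (Fin n) ℤ →ₐ[ℤ] MvPolynomial (Fin n) ℤ :=
    MvPolynomial.aeval (fun i : Fin n => MvPolynomial.esymm (Fin n) ℤ ((i : ℕ) + 1))
  set a : Fin n → MvPolynomial (Fin n) ℤ := fun i => X i
  obtain ⟨b, hb⟩ := exists_mon_basis a
  let φ : MvPolynomial (Fin n) (MvPolynomial (Fin n) ℤ) →+* MvPolynomial (Fin n) ℤ :=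
    eval₂Hom (e : MvPolynomial (Fin n) ℤ →+* MvPolynomial (Fin n) ℤ) X
  have hφ : ∀ y ∈ splitIdeal n a, φ y = 0 := by
    intro y hy
    induction hy using Submodule.span_induction with
    | mem z hz =>
      obtain ⟨i, rfl⟩ := hz
      simp [φ, esymm, map_sum, map_prod, a, e]
    | zero => exact map_zero _
    | add y z _ _ hy hz => rw [map_add, hy, hz, add_zero]
    | smul c y _ hy => rw [smul_eq_mul, map_mul, hy, mul_zero]
  let ψ : Split n a →+* MvPolynomial (Fin n) ℤ := Ideal.Quotient.lift _ φ hφ
  let χ : MvPolynomial (Fin n) ℤ →+* Split n a :=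
    (MvPolynomial.aeval (R := ℤ) fun j => Ideal.Quotient.mk (splitIdeal n a) (X j)).toRingHom
  have h1 : ∀ p, ψ (χ p) = p := fun p => by
    have : ψ.comp χ = RingHom.id _ := MvPolynomial.ringHom_ext
      (fun r => by simp [ψ, χ, φ]) (fun j => by simp [ψ, χ, φ])
    exact DFunLike.congr_fun this p
  have h2 : Function.Injective ψ := by
    have : χ.comp ψ = RingHom.id _ := by
      refine Ideal.Quotient.ringHom_ext (MvPolynomial.ringHom_ext ?_ ?_)
      · intro p
        have : ((χ.comp ψ).comp (Ideal.Quotient.mk (splitIdeal n a))).comp C =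
            (Ideal.Quotient.mk (splitIdeal n a)).comp C := by
          refine MvPolynomial.ringHom_ext (fun r => by simp [ψ, χ, φ]) (fun i => ?_)
          simp only [RingHom.comp_apply, ψ, φ, Ideal.Quotient.lift_mk, eval₂Hom_C]
          have h3 : χ (esymm (Fin n) ℤ ((i : ℕ) + 1)) =
              Ideal.Quotient.mk (splitIdeal n a) (esymm (Fin n) _ ((i : ℕ) + 1)) := by
            simp [χ, esymm, map_sum, map_prod]
          rw [show (e : MvPolynomial (Fin n) ℤ →+* MvPolynomial (Fin n) ℤ) (X i) = esymm (Fin n) ℤ ((i : ℕ) + 1)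
            by simp [e], h3]
          exact Ideal.Quotient.eq.2 (Ideal.subset_span ⟨i, rfl⟩)
        exact DFunLike.congr_fun this p
      · intro j
        simp [ψ, χ, φ]
    exact Function.LeftInverse.injective (g := χ) (DFunLike.congr_fun this)
  have heq : (fun p : Idx n → MvPolynomial (Fin n) ℤ => ∑ d, e (p d) * mon ℤ d) = ψ ∘ b.equivFun.symm := by
    funext p
    rw [Function.comp_apply, ← mk_sum a hb, Ideal.Quotient.lift_mk, map_sum]
    refine Finset.sum_congr rfl fun d _ => ?_
    simp [φ, mon, map_prod]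
  rw [heq]
  exact Function.Bijective.comp ⟨h2, fun p => ⟨χ p, h1 p⟩⟩ b.equivFun.symm.bijective

end SymB52
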